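import Cfsg.Agent.H807.Dg.Num
import Cfsg.Agent.H883.BS.Out

/-!
# S5733 (Boston-Shalev), R5: many large primes (task 3696)

* `many` : for at least `N / 100` exponents `e` there is a prime `u > N + 2` with `BigE g e u`, `N` the dimension of `g`;
* `card_le_five` : at most five such primes divide a number with `Few`.
-/

set_option autoImplicit false

namespace Cfsg.Agent.H174.BS

open Cfsg.Agent.OrdDiv Cfsg.Agent.H436 Cfsg.Agent.H851.Dg Cfsg.Agent.H883.BS Cfsg.Agent.H807.Dg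
open Cfsg.Agent.H278.El.SporNum (IsCl prim_le)
open Cfsg.Agent.H278.El.AltNum (dimOf prim_dvd)
open Cfsg.Agent.H278.El.CrossNum

/-- the exponent is determined by the prime -/
theorem exp_unique {g : Grp} {e e' u : ℕ} (h : BigE g e u) (h' : BigE g e' u) : e = e' := by
  cases g with
  | psl n q => exact h.2.1.symm.trans h'.2.1
  | psu n q => exact h.2.1.symm.trans h'.2.1
  | psp n q => exact h.2.1.symm.trans h'.2.1
  | oodd n q => exact h.2.1.symm.trans h'.2.1
  | oplus n q => exact h.2.1.symm.trans h'.2.1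
  | ominus n q => exact h.2.1.symm.trans h'.2.1
  | _ => exact h.elim

/-- odd exponents -/
def DOdd (n : ℕ) : Finset ℕ := (Finset.Icc (n / 4 + 1) ((n - 1) / 2)).image fun i => 2 * i + 1

theorem mem_DOdd {n e : ℕ} (h : e ∈ DOdd n) : Odd e ∧ n + 2 ≤ 2 * e ∧ e ≤ n := by
  obtain ⟨i, hi, rfl⟩ := Finset.mem_image.1 h
  rw [Finset.mem_Icc] at hi
  exact ⟨⟨i, rfl⟩, by omega, by omega⟩

theorem card_DOdd {n : ℕ} (hn : 1000 ≤ n) : n ≤ 100 * (DOdd n).card := by
  rw [DOdd, Finset.card_image_of_injective _ (fun a b h => by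
    have h' : 2 * a + 1 = 2 * b + 1 := h
    omega), Nat.card_Icc]
  omega

/-- even exponents `e` with `e + 1` divisible by three -/
def DEven (m : ℕ) : Finset ℕ := (Finset.Icc (m / 6 + 1) ((2 * m - 4) / 6)).image fun i => 6 * i + 2

theorem mem_DEven {m e : ℕ} (h : e ∈ DEven m) : Even e ∧ ¬ (e + 1).Prime ∧ m + 2 ≤ e ∧ e ≤ 2 * (m - 1) := by
  obtain ⟨i, hi, rfl⟩ := Finset.mem_image.1 h
  rw [Finset.mem_Icc] at hi
  refine ⟨⟨3 * i + 1, by omega⟩, fun h3 => ?_, by omega, by omega⟩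
  rcases (Nat.dvd_prime h3).1 (show 3 ∣ 6 * i + 2 + 1 from ⟨2 * i + 1, by ring⟩) with h | h <;> omega

theorem card_DEven {m : ℕ} (hm : 499 ≤ m) : 2 * m + 1 ≤ 100 * (DEven m).card := by
  rw [DEven, Finset.card_image_of_injective _ (fun a b h => by
    have h' : 6 * a + 2 = 6 * b + 2 := h
    omega), Nat.card_Icc]
  omega

/-- **Many large primes.** -/
theorem many {g : Grp} (hg : Cond g) (hcl : IsCl g) (hN : 1000 ≤ dimOf g) : ∃ D : Finset ℕ,
    dimOf g ≤ 100 * D.card ∧ ∀ e ∈ D, ∃ u, BigE g e u ∧ dimOf g + 2 < u := by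
  have key : ∀ {q : ℕ}, 2 ≤ q → ∀ {e : ℕ}, 3 ≤ e → (7 ≤ e) → ∃ t, Prim q e t := fun hq e he h7 =>
    exists_prim hq he (fun h => by omega)
  have odd_comp : ∀ {e : ℕ}, Odd e → 7 ≤ e → ¬ (e + 1).Prime := by
    rintro e ⟨k, rfl⟩ h7 h
    rcases h.eq_two_or_odd with h3 | h3 <;> omega
  cases g with
  | psl n q =>
    have hN : 1000 ≤ n := hN
    have hq : 2 ≤ q := hg.2.2.two_le
    refine ⟨DOdd n, card_DOdd hN, fun e he => ?_⟩
    obtain ⟨h1, h2, h3⟩ := mem_DOdd he
    obtain ⟨t, ht⟩ := key hq (e := e) (by omega) (by omega)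
    have h4 := two_le_prim ht (odd_comp h1 (by omega))
    refine ⟨t, ⟨ht.prime, ord_of_prim (by omega) ht, by omega, by omega⟩, ?_⟩
    change n + 2 < t
    omega
  | psu n q =>
    have hN : 1000 ≤ n := hN
    have hq : 2 ≤ q := hg.2.2.two_le
    refine ⟨DOdd n, card_DOdd hN, fun e he => ?_⟩
    obtain ⟨h1, h2, h3⟩ := mem_DOdd he
    obtain ⟨t, ht⟩ := key hq (e := 2 * e) (by omega) (by omega)
    have h4 := prim_le ht
    refine ⟨t, ⟨ht.prime, ord_neg_of_prim (by omega) h1 ht, h1, by omega, by omega⟩, ?_⟩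
    change n + 2 < t
    omega
  | psp m q =>
    have hN : 1000 ≤ 2 * m := hN
    have hq : 2 ≤ q := hg.2.2.two_le
    refine ⟨DEven m, ?_, fun e he => ?_⟩
    · have := card_DEven (m := m) (by omega)
      change 2 * m ≤ _
      omega
    obtain ⟨h1, h2, h3, h5⟩ := mem_DEven he
    obtain ⟨t, ht⟩ := key hq (e := e) (by omega) (by omega)
    have h4 := two_le_prim ht h2
    refine ⟨t, ⟨ht.prime, ord_of_prim (by omega) ht, h1, by omega, by omega⟩, ?_⟩
    change 2 * m + 2 < t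
    omega
  | oodd m q =>
    have hN : 1000 ≤ 2 * m + 1 := hN
    have hq : 2 ≤ q := hg.2.2.two_le
    refine ⟨DEven m, ?_, fun e he => ?_⟩
    · have := card_DEven (m := m) (by omega)
      change 2 * m + 1 ≤ _
      omega
    obtain ⟨h1, h2, h3, h5⟩ := mem_DEven he
    obtain ⟨t, ht⟩ := key hq (e := e) (by omega) (by omega)
    have h4 := two_le_prim ht h2
    refine ⟨t, ⟨ht.prime, ord_of_prim (by omega) ht, h1, by omega, by omega⟩, ?_⟩
    change 2 * m + 1 + 2 < t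
    omega
  | oplus m q =>
    have hN : 1000 ≤ 2 * m := hN
    have hq : 2 ≤ q := hg.2.two_le
    refine ⟨DEven m, ?_, fun e he => ?_⟩
    · have := card_DEven (m := m) (by omega)
      change 2 * m ≤ _
      omega
    obtain ⟨h1, h2, h3, h5⟩ := mem_DEven he
    obtain ⟨t, ht⟩ := key hq (e := e) (by omega) (by omega)
    have h4 := two_le_prim ht h2
    refine ⟨t, ⟨ht.prime, ord_of_prim (by omega) ht, h1, by omega, by omega⟩, ?_⟩
    change 2 * m + 2 < t
    omega
  | ominus m q =>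
    have hN : 1000 ≤ 2 * m := hN
    have hq : 2 ≤ q := hg.2.two_le
    refine ⟨DEven m, ?_, fun e he => ?_⟩
    · have := card_DEven (m := m) (by omega)
      change 2 * m ≤ _
      omega
    obtain ⟨h1, h2, h3, h5⟩ := mem_DEven he
    obtain ⟨t, ht⟩ := key hq (e := e) (by omega) (by omega)
    have h4 := two_le_prim ht h2
    refine ⟨t, ⟨ht.prime, ord_of_prim (by omega) ht, h1, by omega, by omega⟩, ?_⟩
    change 2 * m + 2 < t
    omega
  | _ => exact hcl.elim

/-- At most five large primes divide `A`. -/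
theorem card_le_five {L A : ℕ} (D : Finset ℕ) (t : ℕ → ℕ) (hF : Few L A) (hinj : ∀ e ∈ D, ∀ e' ∈ D, t e = t e' → e = e')
    (ht : ∀ e ∈ D, (t e).Prime ∧ t e ∣ A ∧ L - 11 ≤ t e) : D.card ≤ 5 := by
  classical
  by_contra hcon
  obtain ⟨l, hl, hx, hd⟩ := hF
  have h1 : ∀ e, ∃ x, e ∈ D → x ∈ l ∧ t e ∣ x := fun e => by
    by_cases he : e ∈ D
    · obtain ⟨x, h2, h3⟩ := hd _ (ht e he).1 (ht e he).2.2 (ht e he).2.1
      exact ⟨x, fun _ => ⟨h2, h3⟩⟩
    · exact ⟨0, fun h => absurd h he⟩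
  choose f hf using h1
  obtain ⟨a, ha, b, hb, hab, hfab⟩ := Finset.exists_ne_map_eq_of_card_lt_of_maps_to (s := D) (t := l.toFinset) (f := f)
    (lt_of_le_of_lt (l.toFinset_card_le.trans hl) (by omega))
    (fun e he => List.mem_toFinset.2 (hf e he).1)
  have hne : t a ≠ t b := fun h => hab (hinj a ha b hb h)
  have h3 : t a * t b ∣ f a := by
    refine Nat.Coprime.mul_dvd_of_dvd_of_dvd ((Nat.coprime_primes (ht a ha).1 (ht b hb).1).2 hne) (hf a ha).2 ?_
    rw [hfab]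
    exact (hf b hb).2
  obtain ⟨h4, h5⟩ := hx (f a) (hf a ha).1
  have h6 := Nat.le_of_dvd h4 h3
  have h7 : (L - 11) * (L - 11) ≤ t a * t b := Nat.mul_le_mul (ht a ha).2.2 (ht b hb).2.2
  rw [pow_two] at h5
  omega

end Cfsg.Agent.H174.BS
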