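import Cfsg.Agent.H174.BS.Many
import Cfsg.Agent.H807.Dg.Other

/-!
# S5733 (Boston-Shalev), R5: residual subgroups, socle not in the defining characteristic (task 3696)

`otherD` : `T` classical in characteristic `p` of dimension at least `N0`, `R ≤ T` almost simple with socle `S`, `S` the
quotient of a perfect `P ≤ GL(ι, F)` by its scalars, `|ι|` the dimension of `T`, `S` not of Lie type in characteristic `p`:
`OutD gT R`.
-/

set_option autoImplicit false

namespace Cfsg.Agent.H174.BS

open Cfsg Cfsg.Agent.OrdDiv Cfsg.Agent.H436 Cfsg.Agent.H264.FKS Cfsg.Agent.H915.GN Cfsg.Agent.H851.Dg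
open Cfsg.Agent.H883.BS Cfsg.Agent.H807.Dg
open Cfsg.Agent.H278.El.SporNum (IsCl)
open Cfsg.Agent.H278.El.AltNum (dimOf)
open Cfsg.Agent.H278.El.CrossNum
open Cfsg.Agent.H927.SgX
open Cfsg.Agent.H884.Cx (excM lb lb_le toFin perfect_map exists_quot fs_char fs_eq dvd_of_out')

/-- **Residual subgroups, socle not in the defining characteristic, many missing primes.** -/
theorem otherD : ∃ N0 : ℕ, ∀ {p : ℕ} {gT g : Grp} {T : Type} [Group T] [Finite T], p.Prime →
    IsNamed gT T → HasChar p gT → IsCl gT → 3 ≤ dimOf gT → ∀ {R : Subgroup T} (S : Subgroup R) [S.Normal],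
    IsSimpleGroup S → ¬ IsMulCommutative S →
    Subgroup.centralizer (S : Set R) = ⊥ → IsNamed g S → ¬ HasChar p g →
    ∀ {ι : Type} [Fintype ι] [DecidableEq ι] {F : Type} [Field F] [Finite F] [CharP F p] {P : Subgroup (GL ι F)},
    ⁅P, P⁆ = P → (S ≃* P ⧸ (Geo.scalars ι F).subgroupOf P) → Fintype.card ι = dimOf gT →
    N0 ≤ dimOf gT → OutD gT R := by
  classical
  refine ⟨bnd 36 + 1000, ?_⟩
  intro p gT g T _ _ hp hT hchT hcl h3 R S _ hSs hna hC hS hnch ι _ _ F _ _ _ P hP e hcard hN
  have hRA : Nat.card R ∣ Nat.card (MulAut S) := dvd_aut S hC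
  have hRle : ∀ N, g ∈ names (2 * N + 10) → Nat.card R ≤ bnd N := fun N hN =>
    (Nat.le_of_dvd Nat.card_pos hRA).trans (card_mulAut_le_bnd hS hN)
  obtain ⟨D, hD, hDt⟩ := many hT.cond hcl (by omega)
  -- all primes are missing
  have hall : (∀ u, u.Prime → dimOf gT + 2 < u → ¬ u ∣ Nat.card R) → OutD gT R := fun h => by
    refine ⟨D, by omega, fun e he => ?_⟩
    obtain ⟨u, h1, h2⟩ := hDt e he
    exact ⟨u, h1, h u h1.prime h2⟩
  have hbdd : g ∈ names (2 * 36 + 10) → OutD gT R := fun h1 => hall fun u hu hlt hd => by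
    have h8 := Nat.le_of_dvd Nat.card_pos hd
    have h9 := hRle 36 h1
    omega
  rcases name_cases g with ⟨m, rfl⟩ | hsp | hlie
  · -- alternating groups
    obtain ⟨e1⟩ := hS.real
    have hm5 : 5 ≤ m := hS.cond
    have hm : 9 ≤ m → m ≤ dimOf gT + 2 := fun h9 => by
      rw [← hcard]
      exact alt_bound P _ h9 (e.symm.trans e1)
    by_cases h36 : m ≤ 36
    · exact hbdd (mem_alt (by omega))
    · refine hall fun u hu hlt hd => ?_
      have h1 : u ∣ Nat.card (MulAut (alternatingGroup (Fin m))) := by
        rw [← Nat.card_congr (MulAut.congr e1).toEquiv]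
        exact hd.trans hRA
      have h2 : Nat.card (MulAut (alternatingGroup (Fin m))) = Nat.card (Equiv.Perm (Fin m)) :=
        (Nat.card_congr (Equiv.ofBijective _ (S2119.result m (by omega) (by omega)))).symm
      rw [h2, Nat.card_perm, Nat.card_eq_fintype_card, Fintype.card_fin] at h1
      have h4 := (hu.dvd_factorial).1 h1
      have := hm (by omega)
      omega
  · exact hbdd (mem_spor hsp)
  · -- Lie type in another characteristic
    obtain ⟨s, hs, hch⟩ := exists_char hS.cond hlie
    have hsp : s ≠ p := by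
      rintro rfl
      exact hnch hch
    by_cases hM : g ∈ excM
    · exact hbdd (mem_excM hM)
    have hna' := not_comm hna
    have hlb : lsb g ≤ dimOf gT := by
      rw [← hcard]
      obtain ⟨e2⟩ := exists_quot (P := P)
      have hex : ∃ x y : S, x * y ≠ y * x := by
        by_contra h
        push Not at h
        exact hna' h
      have h5 := lb_le hS.cond hs hch hex hS.real (F := F) ?_ (P.map (toFin ι F).toMonoidHom) (perfect_map hP)
        (e2.trans e.symm)
      · unfold lb at h5
        rwa [if_neg hM] at h5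
      · intro h0
        have h1 : p ∣ s := (CharP.cast_eq_zero_iff F p s).1 h0
        exact hsp ((Nat.prime_dvd_prime_iff_eq hp hs).1 h1).symm
    by_cases h36 : lsb g ≤ 36
    · exact hbdd (mem_names hS.cond hlie h36)
    · -- at most five of the primes divide `|R|`
      have h0 : ∀ x, ∃ u, x ∈ D → BigE gT x u ∧ dimOf gT + 2 < u := fun x => by
        by_cases hx : x ∈ D
        · obtain ⟨u, hu⟩ := hDt x hx
          exact ⟨u, fun _ => hu⟩
        · exact ⟨0, fun h => absurd h hx⟩
      choose t ht using h0
      obtain ⟨f, hf⟩ := fs_char hch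
      have hfew := Cfsg.Agent.H262.Few.few hS.cond hlie hS.eq hs ((fs_eq g).symm.trans hf) (by omega)
      have h5 : (D.filter fun x => t x ∣ Nat.card R).card ≤ 5 := by
        refine card_le_five _ t hfew (fun x hx y hy hxy => ?_) fun x hx => ?_
        · have h1 := (ht x (Finset.mem_filter.1 hx).1).1
          have h2 := (ht y (Finset.mem_filter.1 hy).1).1
          rw [hxy] at h1
          exact exp_unique h1 h2
        · obtain ⟨hxD, hxR⟩ := Finset.mem_filter.1 hx
          obtain ⟨h1, h2⟩ := ht x hxD
          have hu := h1.prime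
          refine ⟨hu, ?_, by omega⟩
          have h6 := hxR.trans hRA
          rw [← H934.OutB.card_out_mul S hna] at h6
          rcases hu.dvd_mul.1 h6 with h7 | h7
          · rcases dvd_of_out' hna' hs hS hch hu (by omega) h7 with h8 | h8
            · exact h8.mul_left _
            · exact ((h8 f hf).mul_left 6).mul_right _
          · exact h7.mul_left _
      have h6 := Finset.card_filter_add_card_filter_not (s := D) (fun x => t x ∣ Nat.card R)
      refine ⟨D.filter fun x => ¬ t x ∣ Nat.card R, by omega, fun x hx => ?_⟩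
      obtain ⟨hxD, hxR⟩ := Finset.mem_filter.1 hx
      exact ⟨t x, (ht x hxD).1, hxR⟩

end Cfsg.Agent.H174.BS
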